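import Mathlib
import Groth.Prelude.Def_Formal
import Groth.Agent.Lib.Helper12.FF2

/-!
# Coherent formal modules killed by a fixed power of the ideal are algebraizable

If `(F_n)` is a formal module for `I` on `X` (each `F_{n+1}/I^{n+1}F_{n+1} ≅ F_n`, `F_n` killed by
`I^{n+1}`) and a fixed power `I^c` kills all `F_n`, then `(F_n) ≅ (M/I^{n+1}M)` for `M = F_c`.
-/

set_option autoImplicit false

universe u

open CategoryTheory CategoryTheory.Limits AlgebraicGeometry Opposite

namespace Groth.Agent.Lib.Lead.FormalSys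

open Groth.Agent.Lib.Helper12.H12FF

variable {A : Type u} [CommRing A] {X : Scheme.{u}} [X.Over (Spec (CommRingCat.of A))]

lemma smulFamily_comp_eq_zero_iff (J : Ideal A) {P T : X.Modules} (f : P ⟶ T) :
    Formal.smulFamily J P ≫ f = 0 ↔ ∀ a ∈ J, Formal.smulMod A P a ≫ f = 0 := by
  constructor
  · intro h a ha
    rw [← ι_smulFamily J P ⟨a, ha⟩, Category.assoc, h, comp_zero]
  · intro h
    apply Sigma.hom_ext
    intro a
    rw [← Category.assoc, ι_smulFamily, comp_zero]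
    exact h a a.2

/-- `g : P ⟶ Q` exhibits `Q` as `P / J P`. -/
structure IsModQuot (J : Ideal A) {P Q : X.Modules} (g : P ⟶ Q) : Prop where
  epi : Epi g
  zero : ∀ a ∈ J, Formal.smulMod A P a ≫ g = 0
  fac : ∀ {T : X.Modules} (f : P ⟶ T), (∀ a ∈ J, Formal.smulMod A P a ≫ f = 0) →
    ∃ f' : Q ⟶ T, g ≫ f' = f

namespace IsModQuot

variable {J J' : Ideal A} {P Q R : X.Modules}

lemma of_desc {g : P ⟶ Q} (h : Formal.smulFamily J P ≫ g = 0)
    (hi : IsIso (cokernel.desc _ g h)) : IsModQuot J g := by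
  have hg : g = cokernel.π (Formal.smulFamily J P) ≫ cokernel.desc _ g h :=
    (cokernel.π_desc _ _ _).symm
  refine ⟨?_, (smulFamily_comp_eq_zero_iff J g).1 h, ?_⟩
  · rw [hg]; exact epi_comp _ _
  · intro T f hf
    have hf' := (smulFamily_comp_eq_zero_iff J f).2 hf
    refine ⟨inv (cokernel.desc _ g h) ≫ cokernel.desc _ f hf', ?_⟩
    have h2 : g ≫ inv (cokernel.desc _ g h) = cokernel.π (Formal.smulFamily J P) :=
      (IsIso.comp_inv_eq _).2 hg
    rw [← Category.assoc, h2, cokernel.π_desc]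

lemma isIso_desc {g : P ⟶ Q} (hg : IsModQuot J g) :
    IsIso (cokernel.desc (Formal.smulFamily J P) g
      ((smulFamily_comp_eq_zero_iff J g).2 hg.zero)) := by
  haveI := hg.epi
  obtain ⟨k, hk⟩ := hg.fac (cokernel.π (Formal.smulFamily J P))
    ((smulFamily_comp_eq_zero_iff J _).1 (cokernel.condition _))
  refine ⟨k, ?_, ?_⟩
  · rw [← cancel_epi (cokernel.π (Formal.smulFamily J P)), cokernel.π_desc_assoc, hk,
      Category.comp_id]
  · rw [← cancel_epi g, ← Category.assoc, hk, cokernel.π_desc, Category.comp_id]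

lemma comp {g : P ⟶ Q} {g' : Q ⟶ R} (hJ : J' ≤ J) (hg : IsModQuot J' g)
    (hg' : IsModQuot J g') : IsModQuot J (g ≫ g') := by
  haveI := hg.epi
  haveI := hg'.epi
  refine ⟨epi_comp _ _, ?_, ?_⟩
  · intro a ha
    rw [← Category.assoc, ← comp_smulMod, Category.assoc, hg'.zero a ha, comp_zero]
  · intro T f hf
    obtain ⟨f₁, hf₁⟩ := hg.fac f (fun a ha => hf a (hJ ha))
    have h1 : ∀ a ∈ J, Formal.smulMod A Q a ≫ f₁ = 0 := by
      intro a ha
      rw [← cancel_epi g, ← Category.assoc, comp_smulMod, Category.assoc, hf₁, hf a ha, comp_zero]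
    obtain ⟨f₂, hf₂⟩ := hg'.fac f₁ h1
    exact ⟨f₂, by rw [Category.assoc, hf₂, hf₁]⟩

lemma iso_comp {P' : X.Modules} (e : P' ⟶ P) [IsIso e] {g : P ⟶ Q} (hg : IsModQuot J g) :
    IsModQuot J (e ≫ g) := by
  haveI := hg.epi
  refine ⟨epi_comp _ _, ?_, ?_⟩
  · intro a ha
    rw [← Category.assoc, ← comp_smulMod, Category.assoc, hg.zero a ha, comp_zero]
  · intro T f hf
    have h1 : ∀ a ∈ J, Formal.smulMod A P a ≫ (inv e ≫ f) = 0 := by
      intro a ha
      rw [← Category.assoc, ← comp_smulMod, Category.assoc, hf a ha, comp_zero]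
    obtain ⟨f', hf'⟩ := hg.fac (inv e ≫ f) h1
    exact ⟨f', by rw [Category.assoc, hf', IsIso.hom_inv_id_assoc]⟩

lemma id_of_killed (h : Formal.KilledBy J P) : IsModQuot J (𝟙 P) :=
  ⟨inferInstance, fun a ha => by rw [h a ha, zero_comp], fun f _ => ⟨f, Category.id_comp f⟩⟩

lemma isIso_of_killed {g : P ⟶ Q} (hg : IsModQuot J g) (h : Formal.KilledBy J P) : IsIso g := by
  haveI := hg.epi
  obtain ⟨k, hk⟩ := hg.fac (𝟙 P) (fun a ha => by rw [h a ha, zero_comp])
  refine ⟨k, hk, ?_⟩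
  rw [← cancel_epi g, ← Category.assoc, hk, Category.id_comp, Category.comp_id]

end IsModQuot

lemma killedBy_mono {J J' : Ideal A} (h : J' ≤ J) {M : X.Modules} (hM : Formal.KilledBy J M) :
    Formal.KilledBy J' M := fun a ha => hM a (h ha)

section System

variable (I : Ideal A) (F : ℕᵒᵖ ⥤ X.Modules)

/-- transition maps of the system -/
noncomputable abbrev tr (a b : ℕ) (h : b ≤ a) : F.obj (op a) ⟶ F.obj (op b) :=
  F.map (homOfLE h).op

lemma tr_comp (a b c : ℕ) (h1 : b ≤ a) (h2 : c ≤ b) :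
    tr F a b h1 ≫ tr F b c h2 = tr F a c (h2.trans h1) := by
  unfold tr
  rw [← F.map_comp]
  rfl

lemma tr_self (a : ℕ) : tr F a a le_rfl = 𝟙 _ := by
  unfold tr
  have : (homOfLE (le_refl a)).op = 𝟙 (op a) := rfl
  rw [this, F.map_id]

variable {I F}

theorem isModQuot_tr_add (hF : Formal.IsCohFormal I F) (n : ℕ) :
    ∀ d : ℕ, IsModQuot (I ^ (n + 1)) (tr F (n + d) n (Nat.le_add_right n d)) := by
  intro d
  induction d with
  | zero =>
    have h := IsModQuot.id_of_killed (hF.2.1 n)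
    rwa [← tr_self F n] at h
  | succ d ih =>
    obtain ⟨h, hi⟩ := hF.2.2 (n + d)
    have h1 : IsModQuot (I ^ (n + d + 1)) (tr F (n + d + 1) (n + d) (Nat.le_succ _)) :=
      IsModQuot.of_desc h hi
    have h2 := IsModQuot.comp (Ideal.pow_le_pow_right (by omega : n + 1 ≤ n + d + 1)) h1 ih
    rwa [tr_comp] at h2

theorem isModQuot_tr (hF : Formal.IsCohFormal I F) (a n : ℕ) (h : n ≤ a) :
    IsModQuot (I ^ (n + 1)) (tr F a n h) := by
  obtain ⟨d, rfl⟩ := Nat.exists_eq_add_of_le h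
  exact isModQuot_tr_add hF n d

theorem exists_completion_iso (hF : Formal.IsCohFormal I F) (c : ℕ)
    (hc : ∀ n : ℕ, Formal.KilledBy (I ^ c) (F.obj (op n))) :
    Nonempty (Formal.completion I (F.obj (op c)) ≅ F) := by
  have hiso : ∀ (a : ℕ) (h : c ≤ a), IsIso (tr F a c h) := fun a h =>
    (isModQuot_tr hF a c h).isIso_of_killed
      (killedBy_mono (Ideal.pow_le_pow_right (Nat.le_succ c)) (hc a))
  haveI : ∀ n : ℕ, IsIso (tr F (n + c) c (Nat.le_add_left c n)) := fun n => hiso _ _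
  let u : ∀ n : ℕ, F.obj (op c) ⟶ F.obj (op n) := fun n =>
    inv (tr F (n + c) c (Nat.le_add_left c n)) ≫ tr F (n + c) n (Nat.le_add_right n c)
  have hu : ∀ n, IsModQuot (I ^ (n + 1)) (u n) := fun n =>
    IsModQuot.iso_comp _ (isModQuot_tr hF _ _ _)
  have hu_succ : ∀ n, u (n + 1) ≫ tr F (n + 1) n (Nat.le_succ n) = u n := by
    intro n
    show (inv (tr F (n + 1 + c) c (Nat.le_add_left c (n + 1))) ≫
      tr F (n + 1 + c) (n + 1) (Nat.le_add_right (n + 1) c)) ≫ tr F (n + 1) n (Nat.le_succ n) =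
      inv (tr F (n + c) c (Nat.le_add_left c n)) ≫ tr F (n + c) n (Nat.le_add_right n c)
    rw [Category.assoc, tr_comp, IsIso.inv_comp_eq,
      ← tr_comp F (n + 1 + c) (n + c) c (by omega) (Nat.le_add_left c n), Category.assoc,
      IsIso.hom_inv_id_assoc, tr_comp]
  let e : ∀ n : ℕ, Formal.modPow I (n + 1) (F.obj (op c)) ⟶ F.obj (op n) := fun n =>
    cokernel.desc (Formal.smulFamily (I ^ (n + 1)) (F.obj (op c))) (u n)
      ((smulFamily_comp_eq_zero_iff _ _).2 (hu n).zero)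
  haveI he : ∀ n, IsIso (e n) := fun n => (hu n).isIso_desc
  have hπe : ∀ n, Formal.modPowπ I (n + 1) (F.obj (op c)) ≫ e n = u n := fun n =>
    cokernel.π_desc _ _ _
  let φ : Formal.completion I (F.obj (op c)) ⟶ F := NatTrans.ofOpSequence e (by
    intro n
    have h1 : (Formal.completion I (F.obj (op c))).map (homOfLE (n.le_add_right 1)).op =
        Formal.modPowTrans I (n + 1) (F.obj (op c)) :=
      Functor.ofOpSequence_map_homOfLE_succ _ n
    rw [h1]
    change (Formal.modPowTrans I (n + 1) (F.obj (op c)) ≫ e n :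
      Formal.modPow I (n + 1 + 1) (F.obj (op c)) ⟶ F.obj (op n)) =
        e (n + 1) ≫ tr F (n + 1) n (Nat.le_succ n)
    haveI : Epi (Formal.modPowπ I (n + 1 + 1) (F.obj (op c))) :=
      inferInstanceAs (Epi (cokernel.π _))
    rw [← cancel_epi (Formal.modPowπ I (n + 1 + 1) (F.obj (op c))),
      ← Category.assoc, Formal.modPowπ_trans, hπe n, ← Category.assoc, hπe (n + 1)]
    exact (hu_succ n).symm)
  haveI : IsIso φ := by
    haveI : ∀ k : ℕᵒᵖ, IsIso (φ.app k) := fun k => he k.unop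
    exact NatIso.isIso_of_isIso_app φ
  exact ⟨asIso φ⟩

end System

end Groth.Agent.Lib.Lead.FormalSys
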